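import Groth.Agent.Lib.BlowKoszul2.Main
import Groth.Agent.Lib.AmpleFin18.ProjFree
import Groth.Agent.Lib.PushUnit3.Basic
import Groth.Agent.Lib.SyntRank2.Basic
import Groth.Agent.Lib.GrMap12.Conormal
import Groth.Agent.Lib.CI2.Conormal
import Groth.Agent.Lib.CI2.Gci
import Groth.Agent.Lib.CI2.RImm
import Groth.Agent.Lib.GrMap12.GrBC
import Groth.Prelude.Def_Omega2

/-!
The conormal sheaf of the blow-up inside the projective bundle.
-/

set_option autoImplicit false
set_option linter.style.haveILetI false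
set_option backward.isDefEq.respectTransparency false
set_option backward.isDefEq.respectTransparency.types false
set_option synthInstance.maxHeartbeats 400000

universe u

open CategoryTheory Limits AlgebraicGeometry TopologicalSpace Opposite TensorProduct

noncomputable section

namespace Groth.Agent.BlowKoszul2

open Groth.Agent.M1 Groth.Agent.PBundle2
open Groth.Agent.P1Split (IsBas)

variable {X : Scheme.{u}}

theorem ex_of_top {A : Type u} [CommRing A] {l : List A} (h : Ideal.ofList l = ⊤) : CI2.Ex A A l := by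
  refine CI2.ex_of_local fun m _ => (CI2.ex_of_unit_mem _ ?_).1
  have hne : (Ideal.ofList (l.map (algebraMap A (Localization.AtPrime m)))) = ⊤ := by
    rw [← Ideal.map_ofList, h, Ideal.map_top]
  by_contra hex
  push Not at hex
  exact (IsLocalRing.maximalIdeal.isMaximal (Localization.AtPrime m)).ne_top
    (top_le_iff.1 (hne.ge.trans (Ideal.span_le.2 fun x hx => (IsLocalRing.mem_maximalIdeal _).2 (hex x hx))))

theorem ideal_eq_top (J : X.IdealSheafData) (U : X.affineOpens) (h : ∀ x ∈ U.1, x ∉ J.support) :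
    J.ideal U = ⊤ := by
  by_contra hne
  obtain ⟨p, hp, hle⟩ := Ideal.exists_le_maximal _ hne
  let P : PrimeSpectrum Γ(X, U.1) := ⟨p, hp.isPrime⟩
  have hx : U.2.fromSpec P ∈ X.zeroLocus (U := U.1) (J.ideal U : Set Γ(X, U.1)) ∩ U.1 := by
    rw [← U.2.fromSpec_image_zeroLocus]
    exact ⟨P, hle, rfl⟩
  have := (Scheme.IdealSheafData.coe_support_inter J U).ge hx
  exact h _ hx.2 this.1

/-- A basis of the sections over an affine open is a basis. -/
theorem isBas_of_basis {M : X.Modules} (hM : Coh.IsQCoh M) {U : X.Opens} (hU : IsAffineOpen U) {n : ℕ}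
    (b : Module.Basis (Fin n) Γ(X, U) Γ(M, U)) : IsBas M U b := by
  classical
  refine P1Split.isBas_of_stalk fun x hx => ?_
  haveI := hM
  letI := stalkModule M hx
  haveI := isLocalizedModule_germ M hU hx
  let := TopCat.Presheaf.algebra_section_stalk X.presheaf (⟨x, hx⟩ : U)
  haveI := hU.isLocalization_stalk ⟨x, hx⟩
  haveI : IsScalarTower Γ(X, U) (X.presheaf.stalk x) (M.presheaf.stalk x) :=
    IsScalarTower.of_algebraMap_smul fun _ _ => rfl
  let bs := b.ofIsLocalizedModule (X.presheaf.stalk x) (hU.primeIdealOf ⟨x, hx⟩).asIdeal.primeCompl (germₗ M hx)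
  have hbs : ∀ i, bs i = M.presheaf.germ U x hx (b i) := fun i =>
    Module.Basis.ofIsLocalizedModule_apply _ _ _ _ _
  convert bs.equivFun.symm.bijective using 1
  funext c
  rw [Module.Basis.equivFun_symm_apply]
  exact Finset.sum_congr rfl fun i _ => by rw [hbs]

/-- A basis on an open gives a basis of its sections. -/
theorem nonempty_basis {M : X.Modules} {U D : X.Opens} (hUD : U ≤ D) {n : ℕ} {e : Fin n → Γ(M, D)}
    (he : IsBas M D e) : Nonempty (Module.Basis (Fin n) Γ(X, U) Γ(M, U)) := by
  let L : (Fin n → Γ(X, U)) →ₗ[Γ(X, U)] Γ(M, U) := Fintype.linearCombination Γ(X, U) fun i => mres M hUD (e i)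
  exact ⟨Module.Basis.ofEquivFun (LinearEquiv.ofBijective L (he U hUD)).symm⟩

/-- Morphisms agreeing on local bases are equal. -/
theorem hom_ext_bases {M N : X.Modules} (φ ψ : M ⟶ N)
    (h : ∀ x : X, ∃ (W : X.Opens) (r : ℕ) (e : Fin r → Γ(M, W)), x ∈ W ∧ IsBas M W e ∧
      ∀ i, φ.app W (e i) = ψ.app W (e i)) : φ = ψ := by
  refine VA11.hom_ext_affine _ _ fun V _ m => ?_
  refine section_ext (φ.app V m) (ψ.app V m) fun x hx => ?_
  obtain ⟨W, r, e, hxW, he, hφ⟩ := h x
  have hg : ∀ (χ : M ⟶ N) (W' : X.Opens) (hW : x ∈ W') (z : Γ(M, W')),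
      KFlat.Sch.stk χ x (M.presheaf.germ W' x hW z) = N.presheaf.germ W' x hW (χ.app W' z) :=
    fun χ W' hW z => TopCat.Presheaf.stalkFunctor_map_germ_apply W' x hW ((Scheme.Modules.toPresheaf X).map χ) z
  suffices key : KFlat.Sch.stk φ x = KFlat.Sch.stk ψ x by
    rw [← hg φ V hx m, ← hg ψ V hx m, key]
  refine LinearMap.ext fun v => ?_
  obtain ⟨c, rfl⟩ := (he.stalk hxW).2 v
  simp only [map_sum, map_smul]
  refine Finset.sum_congr rfl fun i _ => ?_
  congr 1
  exact (hg φ W hxW _).trans ((congrArg _ (hφ i)).trans (hg ψ W hxW _).symm)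

/-- A morphism taking bases to bases is an isomorphism. -/
theorem isIso_of_local_bases {M N : X.Modules} (φ : M ⟶ N)
    (h : ∀ x : X, ∃ (W : X.Opens) (r : ℕ) (e : Fin r → Γ(M, W)), x ∈ W ∧ IsBas M W e ∧
      IsBas N W fun i => φ.app W (e i)) : IsIso φ := by
  refine (M1.isIso_iff_stalk φ).2 fun x => ?_
  obtain ⟨W, r, e, hxW, he, hf⟩ := h x
  have hg : ∀ z : Γ(M, W), KFlat.Sch.stk φ x (M.presheaf.germ W x hxW z) = N.presheaf.germ W x hxW (φ.app W z) :=
    fun z => TopCat.Presheaf.stalkFunctor_map_germ_apply W x hxW ((Scheme.Modules.toPresheaf X).map φ) z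
  show Function.Bijective (KFlat.Sch.stk φ x)
  refine ((he.stalk hxW).of_comp_iff _).1 ?_
  rw [show ((KFlat.Sch.stk φ x : M.presheaf.stalk x → N.presheaf.stalk x) ∘ fun c : Fin r → X.presheaf.stalk x =>
      ∑ i, c i • (M.presheaf.germ W x hxW (e i) : M.presheaf.stalk x)) = fun c =>
      ∑ i, c i • (N.presheaf.germ W x hxW (φ.app W (e i)) : N.presheaf.stalk x) from
    funext fun c => by simp only [Function.comp_apply, map_sum, map_smul, hg]]
  exact hf.stalk hxW

/-- The kernel of a coordinate functional has the standard basis. -/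
theorem exists_isBas_kernel {M L : X.Modules} (q : M ⟶ L) {W : X.Opens} {m : ℕ} {k : Fin (m + 1)}
    {e : Fin (m + 1) → Γ(M, W)} (he : IsBas M W e) (hgen : Twist.IsGen L W (q.app W (e k)))
    (t : Fin m → Γ(X, W)) (ht : ∀ i, q.app W (e (k.succAbove i)) = t i • q.app W (e k)) :
    ∃ w : Fin m → Γ(kernel q, W), (∀ i, (kernel.ι q).app W (w i) = t i • e k - e (k.succAbove i)) ∧
      IsBas (kernel q) W w := by
  have hex : ∀ (V : X.Opens) (z : Γ(M, V)), q.app V z = 0 → ∃ a, (kernel.ι q).app V a = z := fun V z hz =>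
    M1.sections_exact (S := ShortComplex.mk (kernel.ι q) q (kernel.condition _))
      (ShortComplex.exact_of_f_is_kernel _ (kernelIsKernel _)) V z hz
  choose w hw using fun i => hex W (t i • e k - e (k.succAbove i)) (by
    rw [map_sub, Scheme.Modules.Hom.app_smul, ht, sub_self])
  refine ⟨w, hw, fun V hV => ?_⟩
  have hinj : Function.Injective ((kernel.ι q).app V) := M1.app_injective (kernel.ι q) V
  let d : (Fin m → Γ(X, V)) → Fin (m + 1) → Γ(X, V) := fun c =>
    Fin.insertNth (α := fun _ => Γ(X, V)) k (∑ i, c i * ores hV (t i)) (fun i => -c i)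
  have hι : ∀ c : Fin m → Γ(X, V), (kernel.ι q).app V (∑ i, c i • mres (kernel q) hV (w i)) =
      ∑ l, d c l • mres M hV (e l) := fun c => by
    rw [P1Split.app_sum_smul, Fin.sum_univ_succAbove _ k]
    simp only [d, Fin.insertNth_apply_same, Fin.insertNth_apply_succAbove, Finset.sum_smul]
    rw [← Finset.sum_add_distrib]
    refine Finset.sum_congr rfl fun i _ => ?_
    rw [app_mres, hw, map_sub, mres_smul, smul_sub, smul_smul, neg_smul, ← sub_eq_add_neg]
  refine ⟨fun c c' h => funext fun i => ?_, fun z => ?_⟩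
  · have h1 : d c = d c' := (he V hV).1 (by
      show ∑ l, d c l • mres M hV (e l) = ∑ l, d c' l • mres M hV (e l)
      rw [← hι, ← hι]
      exact congrArg _ h)
    have := congrFun h1 (k.succAbove i)
    simpa [d] using this
  · obtain ⟨c, hc⟩ := (he V hV).2 ((kernel.ι q).app V z)
    refine ⟨fun i => -c (k.succAbove i), hinj ?_⟩
    have h0 : q.app V (∑ l, c l • mres M hV (e l)) = 0 := by
      rw [show (∑ l, c l • mres M hV (e l)) = (kernel.ι q).app V z from hc, ← comp_app_apply, kernel.condition]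
      rfl
    rw [P1Split.app_sum_smul, Fin.sum_univ_succAbove _ k] at h0
    simp only [app_mres, ht, mres_smul, smul_smul, ← Finset.sum_smul, ← add_smul] at h0
    have hk : c k + ∑ i, c (k.succAbove i) * ores hV (t i) = 0 :=
      (hgen V hV).1 (h0.trans (zero_smul _ _).symm)
    rw [hι, ← hc]
    refine Finset.sum_congr rfl fun l _ => congrArg (· • _) ?_
    refine Fin.succAboveCases k ?_ (fun i => ?_) l
    · simp only [d, Fin.insertNth_apply_same, neg_mul, Finset.sum_neg_distrib]
      exact (eq_neg_of_add_eq_zero_left hk).symm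
    · simp [d]

/-- The classes of a Koszul regular system of generators form a basis of the conormal sheaf. -/
theorem isBas_conormal {Y : Scheme.{u}} (j : Y ⟶ X) [IsClosedImmersion j] {W : X.Opens} (hW : IsAffineOpen W) {m : ℕ}
    (r : Fin m → Γ(X, W)) (hr : CI2.Ex Γ(X, W) Γ(X, W) (List.ofFn r))
    (hker : RingHom.ker (j.app W).hom = Ideal.span (Set.range r))
    (a : Fin m → Γ(ClSub.idealMod j.ker, W)) (ha : ∀ i, M2.idealIncl j.ker (a i) = r i) :
    IsBas (Omega.conormal j) (j ⁻¹ᵁ W) fun i => M2.pullSec j (ClSub.idealMod j.ker) (a i) := by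
  classical
  obtain ⟨hD, hs⟩ := CI2.surjective_app_of_closed j hW
  let A := Γ(X, W)
  let B := Γ(Y, j ⁻¹ᵁ W)
  let M := ClSub.idealMod j.ker
  let N := Omega.conormal j
  letI : Algebra A B := (j.appLE W (j ⁻¹ᵁ W) le_rfl).hom.toAlgebra
  have he : algebraMap A B = (j.app W).hom := congrArg CommRingCat.Hom.hom j.appLE_eq_app
  have hN : Coh.IsQCoh N := M1.isQCoh_pullback j (M2.isQCoh_idealMod _)
  letI : Module A Γ(N, j ⁻¹ᵁ W) := PullBC11.baseModule (g := j) N (U := W) (V := j ⁻¹ᵁ W) le_rfl
  haveI : IsScalarTower A B Γ(N, j ⁻¹ᵁ W) := IsScalarTower.of_algebraMap_smul fun _ _ => rfl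
  let s : Γ(M, W) →ₗ[A] Γ(N, j ⁻¹ᵁ W) := PullBC11.sect (PP12.unitTo j M) (le_refl (j ⁻¹ᵁ W))
  have hbc : IsBaseChange B s := PP12.isBC_unit j (M2.isQCoh_idealMod j.ker) hW hD (le_refl (j ⁻¹ᵁ W))
  have hsp : ∀ i, s (a i) = M2.pullSec j M (a i) := fun i => mres_id _ _ _
  let E : Algebra.Extension.{u} A B := Algebra.Extension.ofSurjective (Algebra.ofId A B) (fun b => by
    obtain ⟨x, hx⟩ := hs b
    exact ⟨x, (RingHom.congr_fun he x).trans hx⟩)
  have hkerE : E.ker = Ideal.span (Set.range r) := by
    rw [← hker, ← he]; rfl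
  have hrange : LinearMap.range (GrMap12.inclLin j.ker W) = (E.ker : Submodule A A) := by
    rw [GrMap12.range_inclLin _ ⟨W, hW⟩, Scheme.Hom.ker_apply, hker, hkerE]
  let inc : Γ(M, W) →ₗ[A] E.ker :=
    (GrMap12.inclLin j.ker W).codRestrict _ fun x => hrange ▸ LinearMap.mem_range_self _ x
  let T : B ⊗[A] Γ(M, W) →ₗ[B] E.Cotangent :=
    LinearMap.liftBaseChange B ((Algebra.Extension.Cotangent.mk (P := E)).comp inc)
  let L : (Fin m → B) →ₗ[B] Γ(N, j ⁻¹ᵁ W) := Fintype.linearCombination B fun i => M2.pullSec j M (a i)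
  have hL : Function.Bijective L := by
    refine ⟨(injective_iff_map_eq_zero L).2 fun c hc => ?_, fun z => ?_⟩
    · choose x hx using fun i => hs (c i)
      have h0 : ∑ i, (1 : B) ⊗ₜ[A] (x i • a i) = 0 := by
        refine hbc.equiv.injective ?_
        rw [map_sum, map_zero, ← hc]
        simp only [L, Fintype.linearCombination_apply]
        refine Finset.sum_congr rfl fun i _ => ?_
        rw [IsBaseChange.equiv_tmul, one_smul, map_smul, hsp, ← algebraMap_smul B, RingHom.congr_fun he, hx]
      have h1 := congrArg T h0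
      rw [← tmul_sum, map_zero, LinearMap.liftBaseChange_tmul, one_smul, LinearMap.comp_apply,
        Algebra.Extension.Cotangent.mk_eq_zero_iff] at h1
      have h2 : ∑ i, x i * r i ∈ Ideal.span (Set.range r) ^ 2 := by
        have h1' : GrMap12.inclLin j.ker W (∑ i, x i • a i) ∈ Ideal.span (Set.range r) ^ 2 := hkerE ▸ h1
        rw [map_sum] at h1'
        refine (congrArg (· ∈ Ideal.span (Set.range r) ^ 2) ?_).mpr h1'
        refine Finset.sum_congr rfl fun i _ => ?_
        rw [map_smul, smul_eq_mul, ← ha i]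
        rfl
      funext i
      rw [← hx i, Pi.zero_apply]
      exact RingHom.mem_ker.1 (hker ▸ CI2.mem_of_sq_relation hr x h2 i)
    · obtain ⟨w, rfl⟩ := hbc.equiv.surjective z
      induction w using TensorProduct.induction_on with
      | zero => exact ⟨0, by rw [map_zero, map_zero]⟩
      | add p p' hp hp' =>
        obtain ⟨c, hc⟩ := hp; obtain ⟨c', hc'⟩ := hp'
        exact ⟨c + c', by rw [map_add, map_add, hc, hc']⟩
      | tmul b x =>
        have hxm : M2.idealIncl j.ker x ∈ Ideal.span (Set.range r) := by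
          rw [← hkerE]
          exact (inc x).2
        obtain ⟨c, hc⟩ := (Ideal.mem_span_range_iff_exists_fun).1 hxm
        have hx : x = ∑ i, c i • a i := by
          refine M2.idealIncl_injective _ _ ?_
          show GrMap12.inclLin j.ker W x = GrMap12.inclLin j.ker W _
          rw [map_sum]
          refine hc.symm.trans (Finset.sum_congr rfl fun i _ => ?_)
          rw [map_smul, smul_eq_mul, ← ha i]
          rfl
        refine ⟨fun i => b * algebraMap A B (c i), ?_⟩
        rw [IsBaseChange.equiv_tmul, hx, map_sum, Finset.smul_sum]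
        simp only [L, Fintype.linearCombination_apply]
        refine Finset.sum_congr rfl fun i _ => ?_
        rw [map_smul, hsp, ← algebraMap_smul B (c i), smul_smul]
  have hb := isBas_of_basis hN hD (Module.Basis.ofEquivFun (LinearEquiv.ofBijective L hL).symm)
  convert hb using 1
  funext i
  rw [Module.Basis.coe_ofEquivFun, LinearEquiv.symm_symm]
  simp only [L, LinearEquiv.ofBijective_apply]
  rw [Fintype.linearCombination_apply, Finset.sum_eq_single i (fun l _ hl => by rw [Pi.single_eq_of_ne hl, zero_smul])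
    (fun h => absurd (Finset.mem_univ i) h), Pi.single_eq_same, one_smul]

end Groth.Agent.BlowKoszul2
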