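import Groth.Agent.Lib.DiscNoether25.GCI
import Groth.Agent.Lib.CI2.KoszulInv
import Groth.Agent.Lib.CI2.KRPeel
import Mathlib.RingTheory.Localization.Away.Basic

/-!
The chart `A[t] → A[I/a_k]` of the blow-up in a Koszul regular sequence.
-/

set_option autoImplicit false
set_option linter.style.haveILetI false
set_option backward.isDefEq.respectTransparency.types false
universe u

open MvPolynomial
open Groth.Agent.CI2 (Ex Cyc HeadCond)
open Groth.Agent.CanElt (kd KObj kmap kmap_kd)

namespace Groth.Agent.BlowKoszul2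

variable {A : Type u} [CommRing A] {m : ℕ} (f : Fin (m + 1) → A) (k : Fin (m + 1))

/-- The relations `a_k t_i - a_i`. -/
noncomputable def rel (i : Fin m) : MvPolynomial (Fin m) A := C (f k) * X i - C (f (k.succAbove i))

/-- The ratios `a_i / a_k`. -/
noncomputable def ratio (i : Fin m) : Localization.Away (f k) :=
  IsLocalization.mk' (Localization.Away (f k)) (f (k.succAbove i))
    (⟨f k, Submonoid.mem_powers (f k)⟩ : Submonoid.powers (f k))

theorem aeval_ratio_rel (i : Fin m) : aeval (ratio f k) (rel f k i) = 0 := by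
  simp only [rel, map_sub, map_mul, aeval_C, aeval_X, ratio]
  rw [IsLocalization.mk'_spec'_mk]
  exact sub_self _

/-- Divisibility by a power, descended through multiplication injective on homology. -/
theorem mem_range_of_pow_smul {R M : Type u} [CommRing R] [AddCommGroup M] [Module R M] {a : R} {l : List R}
    (h : HeadCond M a l) (n : ℕ) : ∀ (N : ℕ) (z : KObj R M l n), Cyc M l n z →
      (∃ w, kd R M l n w = a ^ N • z) → ∃ w, kd R M l n w = z
  | 0, z, _, hw => by simpa using hw
  | N + 1, z, hz, hw => by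
    have hc : Cyc M l n (a • z) := by
      cases n with
      | zero => trivial
      | succ n => show kd R M l n (a • z) = 0; rw [map_smul, show kd R M l n z = 0 from hz, smul_zero]
    exact h.2 n z hz (mem_range_of_pow_smul h n N (a • z) hc (by rwa [pow_succ, mul_smul] at hw))

theorem ex_rel_and_ker (hf : Ex A A (List.ofFn f)) :
    Ex (MvPolynomial (Fin m) A) (MvPolynomial (Fin m) A) (List.ofFn (rel f k)) ∧
      RingHom.ker (aeval (R := A) (ratio f k)) = Ideal.span (Set.range (rel f k)) := by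
  classical
  let R := MvPolynomial (Fin m) A
  let a : R := C (f k)
  let L := List.ofFn (rel f k)
  have hperm : ((List.ofFn fun i => C (f i) : List R)).Perm (a :: List.ofFn fun i => (C (f (k.succAbove i)) : R)) := by
    have := List.perm_ext_iff_of_nodup (l₁ := (List.finRange (m + 1))) (l₂ := k :: (List.finRange m).map k.succAbove)
      (List.nodup_finRange _) (List.nodup_cons.2 ⟨by simp [Fin.succAbove_ne],
        (List.nodup_finRange _).map Fin.succAbove_right_injective⟩)
    have h2 := (this.2 fun x => by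
      simp only [List.mem_finRange, List.mem_cons, List.mem_map, true_iff, true_and]
      exact (Fin.eq_self_or_eq_succAbove k x).imp id fun ⟨y, hy⟩ => ⟨y, hy.symm⟩).map fun i => (C (f i) : R)
    simp only [List.map_cons, List.map_map, Function.comp_def] at h2
    simp only [List.ofFn_eq_map, a]
    exact h2
  have hExC : Ex R R (a :: List.ofFn fun i => (C (f (k.succAbove i)) : R)) := by
    have h1 := (hf.of_flat (N := R)).map_bijective (σ := algebraMap A R)
      { toFun := id, map_add' := fun _ _ => rfl, map_smul' := fun a b => Algebra.smul_def a b } Function.bijective_id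
    rw [List.map_ofFn] at h1
    exact CI2.ex_of_perm hperm h1
  have heq : Ideal.ofList (a :: L) = Ideal.ofList (a :: List.ofFn fun i => (C (f (k.succAbove i)) : R)) := by
    rw [Ideal.ofList_cons, Ideal.ofList_cons, CI2.ofList_ofFn, CI2.ofList_ofFn]
    refine le_antisymm (sup_le le_sup_left (Ideal.span_le.2 ?_)) (sup_le le_sup_left (Ideal.span_le.2 ?_))
    · rintro _ ⟨i, rfl⟩
      exact sub_mem (Submodule.mem_sup_left (Ideal.mul_mem_right _ _ (Ideal.mem_span_singleton_self a)))
        (Submodule.mem_sup_right (Ideal.subset_span ⟨i, rfl⟩))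
    · rintro _ ⟨i, rfl⟩
      show (C (f (k.succAbove i)) : R) ∈ _
      rw [show (C (f (k.succAbove i)) : R) = a * X i - rel f k i by simp [rel, a]]
      exact sub_mem (Submodule.mem_sup_left (Ideal.mul_mem_right _ _ (Ideal.mem_span_singleton_self a)))
        (Submodule.mem_sup_right (Ideal.subset_span ⟨i, rfl⟩))
  have hH : HeadCond R a L := (CI2.ex_cons_iff _ _).1 (CI2.ex_of_ofList_eq hExC heq (by simp [L]))
  -- after inverting `f k`
  let A₁ := Localization.Away (f k)
  let R₁ := MvPolynomial (Fin m) A₁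
  let S := (Submonoid.powers (f k)).map (C : A →+* R)
  letI : Algebra R R₁ := (MvPolynomial.map (algebraMap A A₁)).toAlgebra
  haveI : IsLocalization S R₁ := MvPolynomial.isLocalization (Submonoid.powers (f k)) A₁
  let u : R₁ := C (algebraMap A A₁ (f k))
  have hu : IsUnit u := (IsLocalization.Away.algebraMap_isUnit (S := A₁) (f k)).map (C : A₁ →+* R₁)
  have hrel : ∀ i, algebraMap R R₁ (rel f k i) = u * (X i - C (ratio f k i)) := fun i => by
    show MvPolynomial.map (algebraMap A A₁) (rel f k i) = _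
    simp only [u]; rw [mul_sub, ← map_mul C, ratio, IsLocalization.mk'_spec'_mk]
    simp [rel]
  have hR₁ : Ex R₁ R₁ (L.map (algebraMap R R₁)) := by
    have h0 := CI2.ex_of_isRelGCI (DiscNoether25.isRelGCI_X_sub_C (ratio f k))
    rw [show L.map (algebraMap R R₁) = List.ofFn fun i => u * (X i - C (ratio f k i)) by
      rw [List.map_ofFn]; exact congrArg List.ofFn (funext hrel)]
    refine CI2.ex_of_ofList_eq h0 ?_ (by simp)
    rw [CI2.ofList_ofFn, CI2.ofList_ofFn]
    exact le_antisymm (Ideal.span_le.2 (by rintro _ ⟨i, rfl⟩; exact Ideal.mul_mem_left _ _ (Ideal.subset_span ⟨i, rfl⟩)))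
      (Ideal.span_le.2 (by
        rintro _ ⟨i, rfl⟩
        exact (Ideal.unit_mul_mem_iff_mem _ hu).1 (Ideal.subset_span ⟨i, rfl⟩)))
  let ψ : R →ₛₗ[algebraMap R R₁] R₁ :=
    { toFun := algebraMap R R₁, map_add' := map_add _, map_smul' := fun x y => map_mul _ x y }
  have hψk : ∀ x : R, ψ x = 0 → ∃ s ∈ S, s • x = 0 := fun x hx => by
    obtain ⟨s, hs⟩ := (IsLocalization.map_eq_zero_iff S R₁ x).1 hx
    exact ⟨s, s.2, hs⟩
  have hψs : ∀ y : R₁, ∃ s ∈ S, ∃ x, ψ x = algebraMap R R₁ s • y := fun y => by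
    obtain ⟨⟨x, s⟩, hxs⟩ := IsLocalization.surj S y
    exact ⟨s, s.2, x, by rw [smul_eq_mul, mul_comm]; exact hxs.symm⟩
  have hpow : ∀ s ∈ S, ∃ N : ℕ, s = a ^ N := by
    rintro _ ⟨_, ⟨N, rfl⟩, rfl⟩
    exact ⟨N, map_pow _ _ _⟩
  refine ⟨fun n z hz => ?_, le_antisymm (fun P hP => ?_) (Ideal.span_le.2 ?_)⟩
  · have hz1 : kd R₁ R₁ (L.map (algebraMap R R₁)) n (kmap ψ L (n + 1) z) = 0 := by
      rw [← kmap_kd, hz, map_zero]
    obtain ⟨w, hw⟩ := hR₁ n _ hz1
    obtain ⟨s, hs, x, hx⟩ := CI2.exists_kmap_eq S ψ hψs L (n + 2) w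
    obtain ⟨t, ht, htz⟩ := CI2.exists_mul_of_kmap_eq_zero S ψ hψk L (n + 1) (kd R R L (n + 1) x - s • z) (by
      rw [map_sub, kmap_kd, hx, map_smul, hw, LinearMap.map_smulₛₗ, sub_self])
    obtain ⟨N, hN⟩ := hpow (t * s) (mul_mem ht hs)
    refine mem_range_of_pow_smul hH (n + 1) N z hz ⟨t • x, ?_⟩
    rw [map_smul, ← hN, mul_smul, ← sub_eq_zero, ← smul_sub, htz]
  · have h1 : algebraMap R R₁ P ∈ Ideal.span (Set.range fun i => (X i - C (ratio f k i) : R₁)) := by
      rw [← DiscNoether25.ker_aeval_eq_span, RingHom.mem_ker]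
      refine Eq.trans ?_ (RingHom.mem_ker.1 hP)
      show aeval (ratio f k) (MvPolynomial.map (algebraMap A A₁) P) = aeval (ratio f k) P
      rw [aeval_map_algebraMap]
    have h2 : algebraMap R R₁ P ∈ (Ideal.span (Set.range (rel f k))).map (algebraMap R R₁) := by
      refine Ideal.span_le.2 ?_ h1
      rintro _ ⟨i, rfl⟩
      refine (Ideal.unit_mul_mem_iff_mem _ hu).1 ?_
      rw [← hrel]
      exact Ideal.mem_map_of_mem _ (Ideal.subset_span ⟨i, rfl⟩)
    obtain ⟨s, hs, hsP⟩ := (IsLocalization.algebraMap_mem_map_algebraMap_iff S R₁ _ _).1 h2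
    obtain ⟨N, rfl⟩ := hpow s hs
    have hmem : ∀ x : R, (∃ w, kd R R L 0 w = (CanElt.k0 R R L).symm x) ↔ x ∈ Ideal.span (Set.range (rel f k)) := fun x => by
      rw [← LinearMap.mem_range, CanElt.mem_range_kd_zero, LinearEquiv.apply_symm_apply, smul_eq_mul, Ideal.mul_top,
        CI2.ofList_ofFn]
    refine (hmem P).1 (mem_range_of_pow_smul hH 0 N _ trivial ?_)
    rw [← map_smul]
    exact (hmem _).2 hsP
  · rintro _ ⟨i, rfl⟩
    exact aeval_ratio_rel f k i

end Groth.Agent.BlowKoszul2
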