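import Groth.Agent.Lib.BlowKoszul2.Algebra
import Groth.Agent.Lib.PBundle2.Chart
import Groth.Agent.Lib.BlowUpExist.Chart
import Groth.Agent.Lib.EffCartier.Mul
import Groth.Agent.Lib.CurveCoh17.Bases
import Groth.Prelude.Def_RegImm
import Groth.Prelude.Def_ClSub2

/-!
The morphism from a blow-up in a Koszul regular ideal to the projective bundle, chart by chart.
-/

set_option autoImplicit false
set_option linter.style.haveILetI false
set_option backward.isDefEq.respectTransparency false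
set_option backward.isDefEq.respectTransparency.types false
set_option synthInstance.maxHeartbeats 400000

universe u

open CategoryTheory Limits AlgebraicGeometry TopologicalSpace Opposite

noncomputable section

namespace Groth.Agent.BlowKoszul2

open Groth.Agent.M1 Groth.Agent.PBundle2

variable {X X' P : Scheme.{u}} {E : X.Modules}

/-- The canonical map from the inverse image of the structure sheaf. -/
abbrev unitHom (f : X' ⟶ X) : (Scheme.Modules.pullback f).obj (Coh.structureModule X) ⟶ Coh.structureModule X' :=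
  ((Scheme.Modules.pullbackPushforwardAdjunction f).homEquiv _ _).symm
    (SheafOfModules.unitToPushforwardObjUnit f.toRingCatSheafHom)

theorem unitHom_pullSec (f : X' ⟶ X) {V : X.Opens} (r : Γ(Coh.structureModule X, V)) :
    (unitHom f).app (f ⁻¹ᵁ V) (M2.pullSec f (Coh.structureModule X) r) =
      (show Γ(Coh.structureModule X', f ⁻¹ᵁ V) from f.app V (show Γ(X, V) from r)) := by
  have h := congrArg (fun φ => Scheme.Modules.Hom.app φ V r)
    (((Scheme.Modules.pullbackPushforwardAdjunction f).homEquiv (Coh.structureModule X) (Coh.structureModule X')).apply_symm_apply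
      (SheafOfModules.unitToPushforwardObjUnit f.toRingCatSheafHom))
  simp only [Adjunction.homEquiv_unit] at h
  exact h

variable (u : E ⟶ Coh.structureModule X) {π : P ⟶ X} {O1 : P.Modules} (q : (Scheme.Modules.pullback π).obj E ⟶ O1)
  {f : X' ⟶ X} {j : X' ⟶ P} (hjπ : j ≫ π = f)
  (ψ : (Scheme.Modules.pullback j).obj O1 ⟶ Coh.structureModule X')

/-- The image of a section of the module, as a function. -/
abbrev val {U : X.Opens} (e : Γ(E, U)) : Γ(X, U) := u.app U e

include hjπ in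
theorem preimage_gl_le {U : X.Opens} (e : Γ(E, U)) : j ⁻¹ᵁ VA11.gl (sg q e) ≤ f ⁻¹ᵁ U := by
  rw [← hjπ]
  exact j.preimage_mono (VA11.gl_le _)

/-- On a chart the images of the sections are the coordinates times the image of the chart section. -/
theorem value (hcomp : (Scheme.Modules.pullbackCongr hjπ).inv.app E ≫ (Scheme.Modules.pullbackComp j π).inv.app E ≫
      (Scheme.Modules.pullback j).map q ≫ ψ = (Scheme.Modules.pullback f).map u ≫ unitHom f)
    {U : X.Opens} (e e' : Γ(E, U)) :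
    j.app _ (VA11.cf (sg q e) (sg q e')) * f.appLE U _ (preimage_gl_le q hjπ e) (val u e) =
      f.appLE U _ (preimage_gl_le q hjπ e) (val u e') := by
  have hle : f ⁻¹ᵁ U ≤ j ⁻¹ᵁ (π ⁻¹ᵁ U) := by rw [← hjπ]; rfl
  have key : ∀ a : Γ(E, U), mres (Coh.structureModule X') hle (ψ.app _ (M2.pullSec j O1 (sg q a))) =
      (show Γ(Coh.structureModule X', f ⁻¹ᵁ U) from f.app U (val u a)) := fun a => by
    have h := congrArg (fun φ => Scheme.Modules.Hom.app φ (f ⁻¹ᵁ U) (M2.pullSec f E a)) hcomp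
    simp only at h
    rw [classify_value q j hjπ ψ a, comp_app_apply] at h
    refine h.trans ((congrArg ((unitHom f).app _) (VA11.map_pullSec f u a)).trans ?_)
    exact unitHom_pullSec f _
  let W := VA11.gl (sg q e)
  have hD : j ⁻¹ᵁ W ≤ f ⁻¹ᵁ U := preimage_gl_le q hjπ e
  have h0 := congrArg (M2.pullSec j O1) (VA11.cf_smul (sg q e) (sg q e'))
  rw [M2.pullSec_smul, ← VA11.mres_pullSec j (VA11.gl_le (sg q e)), ← VA11.mres_pullSec j (VA11.gl_le (sg q e))] at h0
  have h1 := congrArg (ψ.app (j ⁻¹ᵁ W)) h0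
  rw [Scheme.Modules.Hom.app_smul, app_mres, app_mres] at h1
  have hr : ∀ a : Γ(E, U), mres (Coh.structureModule X') (show j ⁻¹ᵁ W ≤ j ⁻¹ᵁ (π ⁻¹ᵁ U) from hD.trans hle)
      (ψ.app _ (M2.pullSec j O1 (sg q a))) = (show Γ(Coh.structureModule X', j ⁻¹ᵁ W) from f.appLE U _ hD (val u a)) :=
    fun a => by
    rw [← mres_mres _ hle hD, key a]
    rfl
  erw [hr e, hr e'] at h1
  exact h1

variable {m : ℕ} {U : X.Opens} (hU : IsAffineOpen U) (b : Module.Basis (Fin (m + 1)) Γ(X, U) Γ(E, U))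
  (k : Fin (m + 1))

/-- The images of the basis. -/
abbrev fb : Fin (m + 1) → Γ(X, U) := fun l => val u (b l)

/-- The coordinate ring of the affine blow-up. -/
abbrev QR : Type u := MvPolynomial (Fin m) Γ(X, U) ⧸ Ideal.span (Set.range (rel (fb u b) k))

variable (J : X.IdealSheafData)

theorem span_fb (hJ : J.ideal ⟨U, hU⟩ = Ideal.span (Set.range (val u (U := U)))) :
    J.ideal ⟨U, hU⟩ = Ideal.span (Set.range (fb u b)) := by
  refine hJ.trans (le_antisymm (Ideal.span_le.2 ?_) (Ideal.span_mono (by rintro _ ⟨l, rfl⟩; exact ⟨b l, rfl⟩)))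
  rintro _ ⟨s, rfl⟩
  show (u.app U s : Γ(X, U)) ∈ _
  rw [← b.sum_repr s, map_sum]
  refine Ideal.sum_mem _ fun l _ => ?_
  rw [Scheme.Modules.Hom.app_smul]
  exact Ideal.mul_mem_left _ _ (Ideal.subset_span ⟨l, rfl⟩)

set_option maxHeartbeats 4000000 in
/-- The preimage of a chart is the affine blow-up. -/
theorem chart_preimage (hcomp : (Scheme.Modules.pullbackCongr hjπ).inv.app E ≫ (Scheme.Modules.pullbackComp j π).inv.app E ≫
      (Scheme.Modules.pullback j).map q ≫ ψ = (Scheme.Modules.pullback f).map u ≫ unitHom f)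
    (hP : KRR.IsProjBundle π E O1 q) (hE : Coh.IsQCoh E) (hf : BlowUp.IsBlowUp f J)
    (hJ : J.ideal ⟨U, hU⟩ = Ideal.span (Set.range (val u (U := U))))
    (hex : CI2.Ex Γ(X, U) Γ(X, U) (List.ofFn (fb u b))) :
    IsAffineOpen (j ⁻¹ᵁ VA11.gl (sg q (b k))) ∧
      Function.Surjective (j.app (VA11.gl (sg q (b k)))) ∧
      RingHom.ker (j.app (VA11.gl (sg q (b k)))).hom =
        (Ideal.span (Set.range (rel (fb u b) k))).map (chartHom (q := q) b k) := by
  classical
  obtain ⟨hWa, hρ⟩ := chart hP hE hU b k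
  let W := VA11.gl (sg q (b k))
  let D := j ⁻¹ᵁ W
  have hDU : D ≤ f ⁻¹ᵁ U := preimage_gl_le q hjπ (b k)
  let R := MvPolynomial (Fin m) Γ(X, U)
  let I : Ideal R := Ideal.span (Set.range (rel (fb u b) k))
  let Q := CommRingCat.of (QR u b k)
  let mk : R →+* Q := Ideal.Quotient.mk I
  let ι : Q →+* Γ(Spec Q, ⊤) := (Scheme.ΓSpecIso Q).inv.hom
  have hι : Function.Bijective ι := ConcreteCategory.bijective_of_isIso (Scheme.ΓSpecIso Q).inv
  let cst : Γ(X, U) →+* Q := mk.comp MvPolynomial.C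
  -- the equation is regular
  have hker := (ex_rel_and_ker (fb u b) k hex).2
  have hnzd : cst (fb u b k) ∈ nonZeroDivisors Q := by
    let θ := (MvPolynomial.aeval (R := Γ(X, U)) (ratio (fb u b) k)).toRingHom
    let θ' : QR u b k →+* Localization.Away (fb u b k) := Ideal.Quotient.lift I θ fun a ha => by
      have : a ∈ RingHom.ker (MvPolynomial.aeval (R := Γ(X, U)) (ratio (fb u b) k)) := hker ▸ ha
      exact this
    have hθ' : Function.Injective θ' := RingHom.lift_injective_of_ker_le_ideal I _ hker.le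
    rw [mem_nonZeroDivisors_iff_right]
    intro z hz
    refine hθ' ?_
    have h2 := congrArg θ' hz
    rw [map_mul, map_zero] at h2
    rw [map_zero]
    refine (IsUnit.mul_left_eq_zero ?_).1 h2
    show IsUnit (θ (MvPolynomial.C (fb u b k)))
    simp only [θ, AlgHom.toRingHom_eq_coe, RingHom.coe_coe, MvPolynomial.aeval_C]
    exact IsLocalization.Away.algebraMap_isUnit _
  have hrel : ∀ i, cst (fb u b (k.succAbove i)) = mk (MvPolynomial.X i) * cst (fb u b k) := fun i => by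
    have : mk (rel (fb u b) k i) = 0 := Ideal.Quotient.eq_zero_iff_mem.2 (Ideal.subset_span ⟨i, rfl⟩)
    rw [rel, map_sub, map_mul, sub_eq_zero] at this
    show mk _ = _
    rw [← this, mul_comm]
    rfl
  -- the affine blow-up over `X`
  let g : Spec Q ⟶ X := Spec.map (CommRingCat.ofHom cst) ≫ hU.fromSpec
  have hgU : ⊤ ≤ g ⁻¹ᵁ U := fun x _ => by
    show hU.fromSpec _ ∈ U
    rw [← SetLike.mem_coe, ← hU.range_fromSpec]
    exact Set.mem_range_self _
  have hg : ∀ a, g.appLE U ⊤ hgU a = ι (cst a) := fun a => by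
    have e1 : hU.fromSpec.appLE U ⊤ (by rw [hU.fromSpec_preimage_self]) = (Scheme.ΓSpecIso Γ(X, U)).inv := by
      rw [Scheme.Hom.appLE, hU.fromSpec_app_self, Category.assoc, ← Functor.map_comp]
      simp
    have e2 : g.appLE U ⊤ hgU = hU.fromSpec.appLE U ⊤ (by rw [hU.fromSpec_preimage_self]) ≫
        (Spec.map (CommRingCat.ofHom cst)).appLE ⊤ ⊤ le_rfl :=
      (Scheme.Hom.appLE_comp_appLE _ _ _ _ _ _ _).symm
    rw [e2, e1, ← BlowUpExist.appTop_eq_appLE]
    exact (ConcreteCategory.congr_hom (Scheme.ΓSpecIso_inv_naturality (CommRingCat.ofHom cst)) a).symm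
  have hιk : ι (cst (fb u b k)) ∈ nonZeroDivisors Γ(Spec Q, ⊤) := by
    rw [mem_nonZeroDivisors_iff_right] at hnzd ⊢
    intro z hz
    obtain ⟨z, rfl⟩ := hι.2 z
    rw [← map_mul, ← map_zero ι] at hz
    rw [hnzd z (hι.1 hz), map_zero]
  have hgC : BlowUp.IsEffCartierIdeal (J.comap g) := fun x => by
    refine ⟨⟨⊤, isAffineOpen_top _⟩, trivial, ι (cst (fb u b k)), hιk, ?_⟩
    rw [EffCartier.comap_ideal J g ⟨U, hU⟩ ⟨⊤, isAffineOpen_top _⟩ hgU, span_fb u hU b J hJ, Ideal.map_span]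
    refine le_antisymm (Ideal.span_le.2 ?_) (Ideal.span_le.2 ?_)
    · rintro _ ⟨_, ⟨l, rfl⟩, rfl⟩
      show g.appLE U ⊤ hgU (fb u b l) ∈ _
      rw [hg]
      refine Fin.succAboveCases k ?_ (fun i => ?_) l
      · exact Ideal.mem_span_singleton_self _
      · rw [hrel, map_mul]; exact Ideal.mul_mem_left _ _ (Ideal.mem_span_singleton_self _)
    · rintro _ rfl
      exact Ideal.subset_span ⟨_, ⟨k, rfl⟩, hg _⟩
  obtain ⟨h, hhf, -⟩ := hf.2 (Spec Q) g hgC
  -- it maps into the chart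
  have hhD : ∀ x, h x ∈ D := fun x => by
    have hy : j (h x) ∈ π ⁻¹ᵁ U := by
      show π (j (h x)) ∈ U
      rw [← Scheme.Hom.comp_apply j π, hjπ, ← Scheme.Hom.comp_apply h f, hhf]
      exact hgU (Set.mem_univ x)
    obtain ⟨l, hl⟩ := exists_mem_gl hP hE hU b hy
    let Dl := j ⁻¹ᵁ VA11.gl (sg q (b l))
    let V := h ⁻¹ᵁ Dl
    let r : Q →+* (Spec Q).presheaf.stalk x := ((Spec Q).presheaf.germ ⊤ x trivial).hom.comp ι
    have hr : ∀ a, (Spec Q).presheaf.germ V x hl (h.app Dl (f.appLE U Dl (preimage_gl_le q hjπ (b l)) a)) = r (cst a) :=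
        fun a => by
      have e1 : f.appLE U Dl (preimage_gl_le q hjπ (b l)) ≫ h.app Dl =
          g.appLE U ⊤ hgU ≫ (Spec Q).presheaf.map (homOfLE (le_top : V ≤ ⊤)).op := by
        rw [Scheme.Hom.app_eq_appLE, Scheme.Hom.appLE_comp_appLE, Scheme.Hom.appLE_map]
        simp only [hhf]; rfl
      rw [← CommRingCat.comp_apply (f.appLE U Dl _) (h.app Dl), e1, CommRingCat.comp_apply]
      erw [TopCat.Presheaf.germ_res_apply, hg]
      rfl
    have h1 := congrArg (fun z => (Spec Q).presheaf.germ V x hl (h.app Dl z)) (value u q hjπ ψ hcomp (b l) (b k))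
    simp only [map_mul] at h1
    rw [hr, hr] at h1
    obtain ⟨a, ha⟩ : ∃ a, cst (fb u b l) = a * cst (fb u b k) :=
      Fin.succAboveCases k (α := fun l => ∃ a, cst (fb u b l) = a * cst (fb u b k)) ⟨1, (one_mul _).symm⟩
        (fun i => ⟨_, hrel i⟩) l
    have hrk : r (cst (fb u b k)) ∈ nonZeroDivisors ((Spec Q).presheaf.stalk x) := by
      let := TopCat.Presheaf.algebra_section_stalk (Spec Q).presheaf (⟨x, trivial⟩ : (⊤ : (Spec Q).Opens))
      haveI := (isAffineOpen_top (Spec Q)).isLocalization_stalk ⟨x, trivial⟩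
      exact IsLocalization.map_nonZeroDivisors_le ((isAffineOpen_top (Spec Q)).primeIdealOf ⟨x, trivial⟩).asIdeal.primeCompl
        ((Spec Q).presheaf.stalk x) ⟨_, hιk, rfl⟩
    have hu : IsUnit ((Spec Q).presheaf.germ V x hl (h.app Dl (j.app _ (VA11.cf (sg q (b l)) (sg q (b k)))))) := by
      refine IsUnit.of_mul_eq_one (r a) ((mul_cancel_right_mem_nonZeroDivisors hrk).1 ?_)
      rw [one_mul, mul_assoc, ← map_mul r, ← ha]
      exact h1
    have hx := (Scheme.mem_basicOpen _ _ x hl).2 hu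
    rw [← Scheme.preimage_basicOpen, ← Scheme.preimage_basicOpen, ← VA11.gl_inf_gl] at hx
    exact hx.2
  -- the ring map
  let φ₀ : R →+* Γ(X', D) := (j.app W).hom.comp (chartHom (q := q) b k)
  have hφC : ∀ a, φ₀ (MvPolynomial.C a) = f.appLE U D hDU a := fun a => by
    show j.app W (chartHom (q := q) b k (MvPolynomial.C a)) = _
    rw [chartHom, MvPolynomial.eval₂Hom_C, Scheme.Hom.app_eq_appLE]
    exact (ConcreteCategory.congr_hom (Scheme.Hom.appLE_comp_appLE j π U W D _ le_rfl) a).trans (by simp only [hjπ])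
  have hφX : ∀ i, φ₀ (MvPolynomial.X i) = j.app W (VA11.cf (sg q (b k)) (sg q (b (k.succAbove i)))) := fun i =>
    congrArg (j.app W) (MvPolynomial.eval₂Hom_X' _ _ i)
  let φ : Q →+* Γ(X', D) := Ideal.Quotient.lift I φ₀ fun a ha => by
    revert a
    show I ≤ RingHom.ker φ₀
    refine Ideal.span_le.2 ?_
    rintro _ ⟨i, rfl⟩
    show φ₀ (rel (fb u b) k i) = 0
    rw [rel, map_sub, map_mul, hφC, hφC, hφX, sub_eq_zero, mul_comm]
    exact value u q hjπ ψ hcomp (b k) (b (k.succAbove i))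
  let κ : D.toScheme ⟶ Spec Q := D.toSpecΓ ≫ Spec.map (CommRingCat.ofHom φ)
  have hκtop : κ.appTop = (Scheme.ΓSpecIso Q).hom ≫ CommRingCat.ofHom φ ≫ D.topIso.inv := by
    rw [Scheme.Hom.comp_appTop, Scheme.Opens.toSpecΓ_appTop]
    exact Scheme.ΓSpecIso_naturality_assoc _ _
  let h' : Spec Q ⟶ D.toScheme := IsOpenImmersion.lift D.ι h (by
    rw [Scheme.Opens.range_ι]; rintro _ ⟨x, rfl⟩; exact hhD x)
  have hh' : h' ≫ D.ι = h := IsOpenImmersion.lift_fac _ _ _
  have hιD : D.ι.appLE D ⊤ (fun x _ => x.2) = D.topIso.inv := by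
    simp [Scheme.Opens.ι_appLE, Scheme.Opens.topIso_inv]; rfl
  have hDtop : ⊤ ≤ h ⁻¹ᵁ D := fun x _ => hhD x
  have hh'top : D.topIso.inv ≫ h'.appTop = h.appLE D ⊤ hDtop := by
    rw [← hιD, BlowUpExist.appTop_eq_appLE, Scheme.Hom.appLE_comp_appLE]
    simp only [hh']
  have hgf : ∀ a, h.appLE D ⊤ hDtop (f.appLE U D hDU a) = ι (cst a) := fun a => by
    rw [← hg, ← CommRingCat.comp_apply, Scheme.Hom.appLE_comp_appLE]
    simp only [hhf]
  have h2 : h' ≫ κ = 𝟙 _ := by
    refine ext_of_isAffine ?_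
    rw [Scheme.Hom.comp_appTop, hκtop, Category.assoc, Category.assoc, hh'top, Scheme.Hom.id_appTop,
      ← Iso.eq_inv_comp, Category.comp_id]
    ext1
    refine Ideal.Quotient.ringHom_ext (MvPolynomial.ringHom_ext (fun a => ?_) fun i => ?_)
    · show h.appLE D ⊤ hDtop (φ₀ (MvPolynomial.C a)) = ι (cst a)
      rw [hφC, hgf]
    · show h.appLE D ⊤ hDtop (φ₀ (MvPolynomial.X i)) = ι (mk (MvPolynomial.X i))
      refine (mul_cancel_right_mem_nonZeroDivisors hιk).1 ?_
      rw [← map_mul ι, ← hrel, ← hgf, ← hgf, ← map_mul]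
      refine congrArg _ ?_
      rw [hφX]
      exact value u q hjπ ψ hcomp (b k) (b (k.succAbove i))
  have hκg : κ ≫ g = D.ι ≫ f := by
    refine BlowUpExist.eq_of_appLE_eq hU (fun x _ => hgU (Set.mem_univ (κ x))) (fun x _ => hDU x.2) ?_
    rw [← Scheme.Hom.appLE_comp_appLE κ g U ⊤ ⊤ hgU le_rfl,
      ← Scheme.Hom.appLE_comp_appLE D.ι f U D ⊤ hDU (fun x _ => x.2), hιD, ← BlowUpExist.appTop_eq_appLE]
    ext a
    show κ.appTop (g.appLE U ⊤ hgU a) = D.topIso.inv (f.appLE U D hDU a)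
    rw [hg, hκtop]
    show D.topIso.inv (φ ((Scheme.ΓSpecIso Q).hom (ι (cst a)))) = _
    rw [show (Scheme.ΓSpecIso Q).hom (ι (cst a)) = cst a from ConcreteCategory.congr_hom (Scheme.ΓSpecIso Q).inv_hom_id _]
    exact congrArg _ (hφC a)
  have h1 : κ ≫ h' = 𝟙 _ := by
    rw [← cancel_mono D.ι, Category.assoc, hh', Category.id_comp]
    refine (hf.2 D.toScheme (D.ι ≫ f) ?_).unique ?_ rfl
    · rw [Scheme.IdealSheafData.comap_comp]
      exact BlowUpExist.isEffCartierIdeal_comap_of_isOpenImmersion hf.1 D.ι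
    · rw [Category.assoc, hhf, hκg]
  haveI : IsIso κ := ⟨h', h1, h2⟩
  haveI : IsAffine D.toScheme := IsAffine.of_isIso κ
  haveI : IsIso κ.appTop := inferInstance
  have hφb : Function.Bijective φ := by
    have he : CommRingCat.ofHom φ = (Scheme.ΓSpecIso Q).inv ≫ κ.appTop ≫ D.topIso.hom := by
      rw [hκtop]; simp; exact (Category.comp_id _).symm
    have : IsIso (CommRingCat.ofHom φ) := by rw [he]; infer_instance
    exact ConcreteCategory.bijective_of_isIso (CommRingCat.ofHom φ)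
  refine ⟨show IsAffineOpen D from inferInstanceAs (IsAffine D.toScheme), fun d => ?_, ?_⟩
  · obtain ⟨z, rfl⟩ := hφb.2 d
    obtain ⟨z, rfl⟩ := Ideal.Quotient.mk_surjective z
    exact ⟨chartHom (q := q) b k z, rfl⟩
  · ext x
    obtain ⟨z, rfl⟩ := hρ.2 x
    rw [RingHom.mem_ker, Ideal.mem_map_iff_of_surjective _ hρ.2]
    refine ⟨fun hz => ⟨z, Ideal.Quotient.eq_zero_iff_mem.1 (hφb.1 (hz.trans (map_zero φ).symm)), rfl⟩, ?_⟩
    rintro ⟨z', hz', he⟩
    rw [← hρ.1 he]
    exact (congrArg φ (Ideal.Quotient.eq_zero_iff_mem.2 hz' : mk z' = 0)).trans (map_zero φ)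

set_option maxHeartbeats 1000000 in
/-- The local structure of the morphism to the projective bundle. -/
theorem main {X X' P : Scheme.{u}} (E : X.Modules) (hE : FlatMod.IsFinLocFree E) (u : E ⟶ Coh.structureModule X)
    (hu : ∀ x : X, ∃ U : X.affineOpens, x ∈ U.1 ∧
      ∃ (n : ℕ) (b : Module.Basis (Fin n) Γ(X, U.1) (E.val.obj (op U.1))),
        LCI.IsKoszulRegularSeq Γ(X, U.1) (List.ofFn fun k => ((u.val.app (op U.1)).hom (b k) : Γ(X, U.1))))
    (J : X.IdealSheafData) (hJ : ∀ U : X.affineOpens, J.ideal U = @Ideal.span Γ(X, U.1) _ (Set.range fun s : E.val.obj (op U.1) => ((u.val.app (op U.1)).hom s : Γ(X, U.1))))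
    (π : P ⟶ X) (O1 : P.Modules) (q : (Scheme.Modules.pullback π).obj E ⟶ O1) (hP : KRR.IsProjBundle π E O1 q)
    (f : X' ⟶ X) (hf : BlowUp.IsBlowUp f J) (j : X' ⟶ P) (hjπ : j ≫ π = f)
    (e : (Scheme.Modules.pullback j).obj O1 ≅ ClSub.idealMod (BlowUp.exceptional f J))
    (hcomp : (Scheme.Modules.pullbackCongr hjπ).inv.app E ≫ (Scheme.Modules.pullbackComp j π).inv.app E ≫
        (Scheme.Modules.pullback j).map q ≫ e.hom ≫ ClSub.idealModι (BlowUp.exceptional f J) =
      (Scheme.Modules.pullback f).map u ≫ unitHom f) (p : P) :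
    ∃ (W : P.affineOpens) (rs : List Γ(P, W.1)), p ∈ W.1 ∧ IsClosedImmersion (j ∣_ W.1) ∧
      (∀ c, FlatMod.IsFinLocFreeOfRank c E → rs.length = c - 1) ∧
      LCI.IsKoszulRegularSeq Γ(P, W.1) rs ∧ RingHom.ker (j.app W.1).hom = Ideal.ofList rs := by
  obtain ⟨⟨U, hU⟩, hpU, n, b, hb⟩ := hu (π p)
  have hEq := M2.isQCoh_of_isFinLocFree hE
  let b' : Module.Basis (Fin n) Γ(X, U) Γ(E, U) := b
  obtain ⟨k, hk⟩ := exists_mem_gl hP hEq hU b' (y := p) hpU
  obtain ⟨m, rfl⟩ : ∃ m, n = m + 1 := ⟨n - 1, by have := k.pos; omega⟩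
  have hex : CI2.Ex Γ(X, U) Γ(X, U) (List.ofFn (fb u b')) := (CI2.isKoszulRegularSeq_iff_ex _).1 hb
  obtain ⟨hWa, hρ⟩ := chart hP hEq hU b' k
  obtain ⟨hDa, hsurj, hkerj⟩ := chart_preimage u q hjπ (e.hom ≫ ClSub.idealModι _) hU b' k J hcomp hP hEq hf
    (hJ ⟨U, hU⟩) hex
  let W := VA11.gl (sg q (b' k))
  let ρ : MvPolynomial (Fin m) Γ(X, U) ≃+* Γ(P, W) := RingEquiv.ofBijective (chartHom (q := q) b' k) hρ
  refine ⟨⟨W, hWa⟩, (List.ofFn (rel (fb u b') k)).map ρ, hk, ?_, fun c hc => ?_, ?_, ?_⟩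
  · haveI : IsAffine W.toScheme := hWa
    haveI : IsAffine (j ⁻¹ᵁ W).toScheme := hDa
    refine IsClosedImmersion.of_surjective_of_isAffine _ ?_
    rw [morphismRestrict_appTop]
    have hW : W.ι ''ᵁ ⊤ = W := W.ι_image_top
    have : ∀ V, V = W → Function.Surjective (j.app V) := fun V hV => hV ▸ hsurj
    refine (Function.Surjective.comp ?_ (this _ hW) : Function.Surjective (_ ∘ _))
    exact (ConcreteCategory.bijective_of_isIso (X'.presheaf.map _)).2
  · obtain ⟨s⟩ := CurveCoh17.nonempty_stalk_equiv hc (π p)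
    haveI := hEq
    letI := stalkModule E hpU
    haveI := isLocalizedModule_germ E hU hpU
    let := TopCat.Presheaf.algebra_section_stalk X.presheaf (⟨π p, hpU⟩ : U)
    haveI := hU.isLocalization_stalk ⟨π p, hpU⟩
    haveI : IsScalarTower Γ(X, U) (X.presheaf.stalk (π p)) (E.presheaf.stalk (π p)) :=
      IsScalarTower.of_algebraMap_smul fun _ _ => rfl
    let bs := b'.ofIsLocalizedModule (X.presheaf.stalk (π p))
      (hU.primeIdealOf ⟨π p, hpU⟩).asIdeal.primeCompl (germₗ E hpU)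
    have hnt : Nontrivial (X.presheaf.stalk (π p)) := inferInstance
    have := (Module.finrank_eq_card_basis bs).symm.trans (s.finrank_eq.trans (Module.finrank_fin_fun _))
    simp only [Fintype.card_fin] at this
    simp only [List.length_map, List.length_ofFn]
    omega
  · exact (CI2.isKoszulRegularSeq_iff_ex _).2 (CI2.ex_map_equiv ρ (ex_rel_and_ker (fb u b') k hex).1)
  · rw [show ((List.ofFn (rel (fb u b') k)).map ρ) = (List.ofFn (rel (fb u b') k)).map (chartHom (q := q) b' k) from rfl,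
      ← Ideal.map_ofList, CI2.ofList_ofFn]
    exact hkerj

end Groth.Agent.BlowKoszul2
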